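import Cfsg.Agent.H648.Loc.NNE6
import Cfsg.Agent.H648.Loc.LargeIdx
import Cfsg.Agent.CTwoTab.BInst
import Cfsg.Agent.KFacts.Baby.Inst
import Cfsg.Agent.BM.KHAll
import Cfsg.Agent.BabyM.Instance

/-!
# The Baby Monster: the class of elements of order 13 is not nilpotent modulo two (helper648, task 1295)
-/

set_option autoImplicit false
set_option maxRecDepth 100000

open Subgroup Cfsg Cfsg.Lie

namespace Cfsg.Agent.H648.Loc

open Cfsg.Agent.Blocks.LocalRing
open Cfsg.Agent.Blocks
open Cfsg.Agent.H652.Four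

universe u

theorem card_b : Nat.card Spor.BabyMonster = 4154781481226426191177580544000000 :=
  (S1704.result : Cfsg.IsB Cfsg.Spor.BabyMonster).2

/-- the elements of order 13 of the Baby Monster -/
theorem b_main : (∃ x : Spor.BabyMonster, orderOf x = 13) ∧
    (∀ x y : Spor.BabyMonster, orderOf x = 13 → orderOf y = 13 → IsConj x y) ∧
    ∀ M : Ideal AlgInt, IsPModular 2 M → NN M (ind Spor.BabyMonster 13) := by
  have hfin : Finite Spor.BabyMonster := CTwoTab.BInst.finite_B
  have h13 : Nat.Prime 13 := by norm_num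
  obtain ⟨K, iF, iT, hK, t, X₀, σ, D, -, hcard⟩ := CTwoTab.BInst.exists_sec
  have hkc : σ.ker ≤ center ↥X₀ := by
    intro m hm
    rw [mem_center_iff]
    intro g
    apply Subtype.ext
    rcases (D.ker m).1 hm with h | h
    · show (g : Spor.BabyMonster) * m = m * g
      rw [h, mul_one, one_mul]
    · show (g : Spor.BabyMonster) * m = m * g
      rw [h]
      exact D.comm g g.2
  have hk2 : IsPGroup 2 σ.ker := by
    intro m
    refine ⟨1, Subtype.ext (Subtype.ext ?_)⟩
    show ((m : ↥X₀) : Spor.BabyMonster) ^ 2 ^ 1 = 1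
    rw [pow_one, pow_two]
    rcases (D.ker m).1 m.2 with h | h
    · rw [h, mul_one]
    · rw [h, D.t_sq]
  -- elements of order 13 of `X₀`
  obtain ⟨x₁, y₁, hx₁, hxy₁⟩ := e6_norm K hK
  obtain ⟨x, hx, hxo⟩ := exists_lift D.surj hk2 h13 (by norm_num) hx₁
  obtain ⟨y, hy⟩ := D.surj y₁
  have hxy : y * x * y⁻¹ = x ^ 2 := by
    refine eq_of_map_eq (φ := σ) (p := 2) (r := 13) (by norm_num) hkc hk2 ?_ ?_ ?_
    · rw [conj_pow, ← hxo, pow_orderOf_eq_one]; group
    · rw [← pow_mul, mul_comm, pow_mul, ← hxo, pow_orderOf_eq_one, one_pow]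
    · rw [map_mul, map_mul, map_inv, map_pow, hx, hy, hxy₁]
  have hxo' : orderOf (x : Spor.BabyMonster) = 13 := by rw [Subgroup.orderOf_coe, hxo]
  have hxy' : (y : Spor.BabyMonster) * x * (y : Spor.BabyMonster)⁻¹ = (x : Spor.BabyMonster) ^ 2 :=
    congrArg Subtype.val hxy
  have hone : ∀ z : Spor.BabyMonster, orderOf z = 13 → IsConj (x : Spor.BabyMonster) z := fun z hz =>
    one_class h13 (by rw [card_b]; norm_num) hxo' (conj_pow_of_two hxo' hxy') hz
  refine ⟨⟨x, hxo'⟩, fun a b ha hb => (hone a ha).symm.trans (hone b hb), fun M hM => ?_⟩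
  -- from `²E₆(2)` to `X₀`
  have h1 : NN M (ind ↥X₀ 13) := NN_ind_quot D.surj hkc hk2 h13 (by norm_num) (nn_e6 K hK hM)
  -- from `X₀` to the centralizer of `t`
  have hle : X₀ ≤ centralizer ({t} : Set Spor.BabyMonster) := fun m hm =>
    mem_centralizer_singleton_iff.2 (D.comm m hm)
  have hN : (X₀.subgroupOf (centralizer ({t} : Set Spor.BabyMonster))).Normal := by
    constructor
    intro n hn g
    exact D.nrm g (mem_centralizer_singleton_iff.1 g.2) _ hn
  have h2 : NN M (ind ↥(X₀.subgroupOf (centralizer ({t} : Set Spor.BabyMonster))) 13) :=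
    NN_ind_equiv h13 (subgroupOfEquivOfLe hle) h1
  have hidx : ¬ 13 ∣ (X₀.subgroupOf (centralizer ({t} : Set Spor.BabyMonster))).index := by
    intro hd
    have h3 := (X₀.subgroupOf (centralizer ({t} : Set Spor.BabyMonster))).card_mul_index
    rw [Nat.card_congr (subgroupOfEquivOfLe hle).toEquiv, hcard, ← σ.ker.card_mul_index, index_ker,
      MonoidHom.range_eq_top.2 D.surj, card_top, card_e6 K hK] at h3
    obtain ⟨j, hj⟩ := hd
    rw [hj] at h3
    have h4 : (13 * 13) ∣ 306129918735099415756800 := by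
      rw [← h3]
      refine Dvd.dvd.trans ?_ (mul_dvd_mul (Dvd.intro_left (Nat.card σ.ker) rfl) (Dvd.intro j rfl))
      norm_num
    norm_num at h4
  have h3 : NN M (ind ↥(centralizer ({t} : Set Spor.BabyMonster)) 13) := by
    refine NN_ind_normal (N := X₀.subgroupOf (centralizer ({t} : Set Spor.BabyMonster))) ?_ h2
    intro g hg
    have h4 : orderOf (QuotientGroup.mk g : ↥(centralizer ({t} : Set Spor.BabyMonster)) ⧸
        X₀.subgroupOf (centralizer ({t} : Set Spor.BabyMonster))) ∣ 13 := by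
      rw [← hg]
      exact orderOf_map_dvd (QuotientGroup.mk' _) g
    rcases (Nat.dvd_prime h13).1 h4 with h5 | h5
    · rw [orderOf_eq_one_iff, QuotientGroup.eq_one_iff] at h5
      exact h5
    · exfalso
      apply hidx
      rw [index, ← h5]
      exact orderOf_dvd_natCard _
  -- from the centralizer of `t` to `B`
  have hcc : centralizer ((zpowers t : Subgroup Spor.BabyMonster) : Set Spor.BabyMonster) =
      centralizer ({t} : Set Spor.BabyMonster) := by
    ext g
    rw [mem_centralizer_singleton_iff, mem_centralizer_iff]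
    constructor
    · intro h
      exact (h t (mem_zpowers t)).symm
    · rintro h _ ⟨m, rfl⟩
      exact ((show Commute g t from h).zpow_right m).eq.symm
  rw [← cl_eq_ind hxo' hone]
  have hP : IsPGroup 2 (zpowers t) := by
    refine IsPGroup.of_card (n := 1) ?_
    rw [Nat.card_zpowers, pow_one]
    exact orderOf_eq_prime (by rw [pow_two, D.t_sq]) D.t_ne
  refine NN_cl_of_ind (P := zpowers t) hM hP ?_ hxo' (fun z _ hz => hone z hz) ?_
  · rw [hcc, zpowers_le]
    exact mem_centralizer_singleton_iff.2 rfl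
  · rw [hcc]
    exact h3

theorem b_four {x : Spor.BabyMonster} (hx : orderOf x = 13) :
    4 ∣ (centralizer ({x} : Set Spor.BabyMonster)).index := by
  have A := Cfsg.Agent.BabyM.Instance.all
  have := A.finite_G
  rw [index_cent Cfsg.Agent.BM.KHAll.iso x]
  refine four_dvd_of_large (Cfsg.Agent.KFacts.Baby.Inst.large A) ?_ (r := 13) (by norm_num) (by norm_num) ?_
  · have h1 : Nat.card (Subgroup.centralizer ({Cfsg.Agent.BabyU.ClosModel.zz A} :
        Set Cfsg.Agent.BabyM.Inst.M.G)) = 2 ^ 23 * 42305421312000 := by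
      rw [Nat.card_congr (Cfsg.Agent.KFacts.Baby.Inst.eC A).toEquiv, A.grp.card_C]
    rw [h1]
    norm_num
  · rw [← hx]
    exact MulEquiv.orderOf_eq Cfsg.Agent.BM.KHAll.iso x

/-- `Loc` across universes -/
theorem Loc_of_equiv {G : Type u} [Group G] [Finite G] {Q : Type} [Group Q] (e : G ≃* Q) {x : Q}
    (hx : 4 ∣ (centralizer ({x} : Set Q)).index) (h : ∀ M : Ideal AlgInt, IsPModular 2 M → NN M (cl x)) :
    Loc G := by
  refine ⟨e.symm x, ?_, fun M hM => NN.of_equiv e ?_⟩
  · rw [index_cent e, e.apply_symm_apply]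
    exact hx
  · rw [e.apply_symm_apply]
    exact h M hM

/-- **The Baby Monster.** -/
theorem loc_B {S : Type u} [Group S] [Finite S] (h : Cfsg.Spor.IsoB S) : Loc S := by
  obtain ⟨e⟩ := h
  obtain ⟨⟨x, hx⟩, hone, hNN⟩ := b_main
  refine Loc_of_equiv e (b_four hx) fun M hM => ?_
  rw [cl_eq_ind hx fun y hy => hone x y hx hy]
  exact hNN M hM

end Cfsg.Agent.H648.Loc
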